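import Mathlib
import Cfsg.Agent.Helper17.TCArr

set_option autoImplicit false

namespace Cfsg.Agent.Helper17.TCD.L27

open Cfsg.Agent.Helper17.TC

noncomputable def T0 : Arr := (.leaf 0xc17af8b95a76ab2a314b447392c90b8aa8693b036f32e2ed7667251a81676a30a4621022)

noncomputable def T1 : Arr := (.leaf 0xb17bf8a95b764d2491ad4a533cc38b34a3099508ef8ce88d1c61857887470c36c4041642)

noncomputable def T2 : Arr := (.leaf 0x5d4bb8553b365774f544e40d9b19f27af9702c882c2477ea26b1e91446e60e56625e1063)

noncomputable def T3 : Arr := (.leaf 0xbd7594b555135b8536a0f9d098d7ce4323f184b2888092072ac22a705104126081683602)

noncomputable def T4 : Arr := (.leaf 0)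

noncomputable def J0 : Arr := (.leaf 0x41100101200000000410001012044002008100008020000000000000000002c0020080000000102400200808000802000000000000000000000000000000000001400200804000802000000000000000000080020080000000000000200800000000)

noncomputable def J1 : Arr := (.leaf 0x41100101a0000000041000101a000000004000000010000000040000000100000000400000001000000004000000010000000040d00701a0000000040000000100000000400000001000000004000000010000000040000000100000000400000001)

noncomputable def J2 : Arr := (.leaf 0x41300080a0000000041200080a00000000000000000000000004000000010400040281100100a01c01a0680f0068120000000040700080a0000000040600080a000000000000000000000000040300080a0000000000000080a00000200c00000000)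

noncomputable def J3 : Arr := (.leaf 0x4000000010000000040000000100000000000000000000000004000000010000000040000000100000000000000000000000004000000010000000040000000100000000000000000000000004000000010000000000000000100000000400000001)

noncomputable def J4 : Arr := (.leaf 0)

noncomputable def Pa : Arr := (.leaf 0x7305307205201101006d06c00b00a009008067047066046005004063043002040000000)

noncomputable def F0 : Arr := (.leaf 0xb5e958c2725a9287b9ac290e610c01)

noncomputable def F1 : Arr := (.leaf 0xb5e958c2725a9287b9ac290e610c01)

noncomputable def F2 : Arr := (.leaf 0x9de55b51ac845cf3acc95206520402)

noncomputable def F3 : Arr := (.leaf 0xb4e92bd5cf6363051d065a48328041)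

end Cfsg.Agent.Helper17.TCD.L27
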