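import Mathlib
import Cfsg.Agent.Helper17.TCD.Fi23A_Cert

set_option autoImplicit false

namespace Cfsg.Agent.Helper17.TCD.Fi23A

open Cfsg.Agent.Helper17.TC

set_option maxHeartbeats 0 in
theorem kFin_20000 : chkRangeFin cert 20000 2000 = true := by decide +kernel

set_option maxHeartbeats 0 in
theorem kFin_22000 : chkRangeFin cert 22000 2000 = true := by decide +kernel

set_option maxHeartbeats 0 in
theorem kFin_24000 : chkRangeFin cert 24000 2000 = true := by decide +kernel

set_option maxHeartbeats 0 in
theorem kFin_26000 : chkRangeFin cert 26000 2000 = true := by decide +kernel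

set_option maxHeartbeats 0 in
theorem kFin_28000 : chkRangeFin cert 28000 2000 = true := by decide +kernel

set_option maxHeartbeats 0 in
theorem kFin_30000 : chkRangeFin cert 30000 1671 = true := by decide +kernel

end Cfsg.Agent.Helper17.TCD.Fi23A
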