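import Mathlib
import Cfsg.Agent.Helper17.TC
import Cfsg.Agent.Helper17.TCD.Fi24A_A0
import Cfsg.Agent.Helper17.TCD.Fi24A_A1
import Cfsg.Agent.Helper17.TCD.Fi24A_A2
import Cfsg.Agent.Helper17.TCD.Fi24A_A3
import Cfsg.Agent.Helper17.TCD.Fi24A_A4
import Cfsg.Agent.Helper17.TCD.Fi24A_A5
import Cfsg.Agent.Helper17.TCD.Fi24A_A6
import Cfsg.Agent.Helper17.TCD.Fi24A_A7
import Cfsg.Agent.Helper17.TCD.Fi24A_A8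
import Cfsg.Agent.Helper17.TCD.Fi24A_A9
import Cfsg.Agent.Helper17.TCD.Fi24A_A10
import Cfsg.Agent.Helper17.TCD.Fi24A_A11
import Cfsg.Agent.Helper17.TCD.Fi24A_A12
import Cfsg.Agent.Helper17.TCD.Fi24A_A13
import Cfsg.Agent.Helper17.TCD.Fi24A_A14
import Cfsg.Agent.Helper17.TCD.Fi24A_A15
import Cfsg.Agent.Helper17.TCD.Fi24A_A16
import Cfsg.Agent.Helper17.TCD.Fi24A_A17
import Cfsg.Agent.Helper17.TCD.Fi24A_A18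
import Cfsg.Agent.Helper17.TCD.Fi24A_A19
import Cfsg.Agent.Helper17.TCD.Fi24A_A20
import Cfsg.Agent.Helper17.TCD.Fi24A_A21
import Cfsg.Agent.Helper17.TCD.Fi24A_A22
import Cfsg.Agent.Helper17.TCD.Fi24A_A23
import Cfsg.Agent.Helper17.TCD.Fi24A_A24
import Cfsg.Agent.Helper17.TCD.Fi24A_A25
import Cfsg.Agent.Helper17.TCD.Fi24A_A26
import Cfsg.Agent.Helper17.TCD.Fi24A_A27
import Cfsg.Agent.Helper17.TCD.Fi24A_A28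
import Cfsg.Agent.Helper17.TCD.Fi24A_A29
import Cfsg.Agent.Helper17.TCD.Fi24A_A30

set_option autoImplicit false

namespace Cfsg.Agent.Helper17.TCD.Fi24A

open Cfsg.Agent.Helper17.TC

def relsL : List (List ℕ) := [[0, 0], [0, 1, 0, 1, 0, 1], [0, 2, 0, 2], [0, 3, 0, 3], [0, 4, 0, 4], [0, 5, 0, 5], [0, 6, 0, 6], [0, 7, 0, 7], [0, 8, 0, 8], [0, 10, 0, 10], [0, 9, 0, 9], [0, 11, 0, 11], [1, 1], [1, 2, 1, 2, 1, 2], [1, 3, 1, 3], [1, 4, 1, 4], [1, 5, 1, 5], [1, 6, 1, 6], [1, 7, 1, 7], [1, 8, 1, 8], [1, 10, 1, 10], [1, 9, 1, 9], [1, 11, 1, 11], [2, 2], [2, 3, 2, 3, 2, 3], [2, 4, 2, 4], [2, 5, 2, 5], [2, 6, 2, 6], [2, 7, 2, 7], [2, 8, 2, 8], [2, 10, 2, 10], [2, 9, 2, 9], [2, 11, 2, 11], [3, 3], [3, 4, 3, 4, 3, 4], [3, 5, 3, 5], [3, 6, 3, 6], [3, 7, 3, 7], [3, 8, 3, 8], [3,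 10, 3, 10], [3, 9, 3, 9], [3, 11, 3, 11], [4, 4], [4, 5, 4, 5, 4, 5], [4, 6, 4, 6], [4, 7, 4, 7], [4, 8, 4, 8], [4, 10, 4, 10], [4, 9, 4, 9], [4, 11, 4, 11], [5, 5], [5, 6, 5, 6, 5, 6], [5, 7, 5, 7], [5, 8, 5, 8], [5, 10, 5, 10, 5, 10], [5, 9, 5, 9], [5, 11, 5, 11], [6, 6], [6, 7, 6, 7, 6, 7], [6, 8, 6, 8], [6, 10, 6, 10], [6, 9, 6, 9], [6, 11, 6, 11], [7, 7], [7, 8, 7, 8, 7, 8], [7, 10, 7, 10], [7, 9, 7, 9], [7, 11, 7, 11], [8, 8], [8, 10, 8, 10], [8, 9, 8, 9, 8, 9], [8, 11, 8, 11], [10, 10], [10, 11, 10, 11, 10, 11], [9, 10, 9, 10], [9, 9], [9, 11, 9, 11], [11, 11], [0, 10, 7, 6, 5, 4, 3, 2, 10, 7, 6, 5, 4, 3, 2, 10, 7, 6, 5, 4, 3, 2, 10, 7, 6, 5, 4, 3, 2, 10, 7, 6, 5, 4, 3, 2, 10, 7, 6, 5, 4, 3, 2, 10, 7, 6, 5, 4, 3, 2, 10, 7, 6, 5, 4, 3, 2, 10, 7, 6, 5, 4, 3, 2],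 [5, 4, 3, 2, 1, 0, 5, 6, 7, 8, 9, 5, 10, 11, 5, 4, 3, 2, 1, 0, 5, 6, 7, 8, 9, 5, 10, 11, 5, 4, 3, 2, 1, 0, 5, 6, 7, 8, 9, 5, 10, 11, 5, 4, 3, 2, 1, 0, 5, 6, 7, 8, 9, 5, 10, 11, 5, 4, 3, 2, 1, 0, 5, 6, 7, 8, 9, 5, 10, 11, 5, 4, 3, 2, 1, 0, 5, 6, 7, 8, 9, 5, 10, 11, 5, 4, 3, 2, 1, 0, 5, 6, 7, 8, 9, 5, 10, 11, 5, 4, 3, 2, 1, 0, 5, 6, 7, 8, 9, 5, 10, 11, 5, 4, 3, 2, 1, 0, 5, 6, 7, 8, 9, 5, 10, 11, 5, 4, 3, 2, 1, 0, 5, 6, 7, 8, 9, 5, 10, 11, 5, 4, 3, 2, 1, 0, 5, 6, 7, 8, 9, 5, 10, 11, 5, 4, 3, 2, 1, 0, 5, 6, 7, 8, 9, 5, 10, 11, 5, 4, 3, 2, 1, 0, 5, 6, 7, 8, 9, 5, 10, 11, 5, 4, 3, 2, 1, 0, 5, 6, 7, 8, 9, 5, 10, 11, 5, 4, 3, 2, 1, 0, 5, 6, 7, 8, 9, 5, 10, 11, 5, 4, 3, 2, 1, 0, 5, 6, 7, 8, 9, 5, 10, 11, 5, 4, 3, 2, 1, 0, 5, 6, 7, 8, 9, 5, 10, 11]]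

def subsL : List (List ℕ) := [[2], [3], [4], [5], [6], [7], [8], [10], [11], [9], [0]]

noncomputable def cert : Cert :=
  { ncols := 12, M := 466452, N := 306936, bt := 19, mt := 524287, W := 42, mW := 4398046511103,
    WJ := 62, mJ := 4611686018427387903, bn := 19, mn := 524287, fuel := 64, ck := 8, cm := 255,
    invc := [0, 1, 2, 3, 4, 5, 6, 7, 8, 9, 10, 11], rels := relsL, subs := subsL,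
    T := [T0, T1, T2, T3, T4, T5, T6, T7, T8, T9, T10, T11, T12], J := [J0, J1, J2, J3, J4, J5, J6, J7, J8, J9, J10, J11, J12], P := Pa,
    F := [F0, F1, F2, F3, F4, F5, F6, F7, F8, F9, F10, F11] }

end Cfsg.Agent.Helper17.TCD.Fi24A
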