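import Mathlib
import Cfsg.Agent.Helper17.TCD.ONA_Cert

set_option autoImplicit false

namespace Cfsg.Agent.Helper17.TCD.ONA

open Cfsg.Agent.Helper17.TC

set_option maxHeartbeats 0 in
theorem kFin_40000 : chkRangeFin cert 40000 2000 = true := by decide +kernel

set_option maxHeartbeats 0 in
theorem kFin_42000 : chkRangeFin cert 42000 2000 = true := by decide +kernel

set_option maxHeartbeats 0 in
theorem kFin_44000 : chkRangeFin cert 44000 2000 = true := by decide +kernel

set_option maxHeartbeats 0 in
theorem kFin_46000 : chkRangeFin cert 46000 2000 = true := by decide +kernel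

set_option maxHeartbeats 0 in
theorem kFin_48000 : chkRangeFin cert 48000 2000 = true := by decide +kernel

set_option maxHeartbeats 0 in
theorem kFin_50000 : chkRangeFin cert 50000 2000 = true := by decide +kernel

set_option maxHeartbeats 0 in
theorem kFin_52000 : chkRangeFin cert 52000 2000 = true := by decide +kernel

set_option maxHeartbeats 0 in
theorem kFin_54000 : chkRangeFin cert 54000 2000 = true := by decide +kernel

end Cfsg.Agent.Helper17.TCD.ONA
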