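import Mathlib
import Cfsg.Agent.Helper17.TCD.ONA_Cert

set_option autoImplicit false

namespace Cfsg.Agent.Helper17.TCD.ONA

open Cfsg.Agent.Helper17.TC

set_option maxHeartbeats 0 in
theorem kFin_56000 : chkRangeFin cert 56000 2000 = true := by decide +kernel

set_option maxHeartbeats 0 in
theorem kFin_58000 : chkRangeFin cert 58000 2000 = true := by decide +kernel

set_option maxHeartbeats 0 in
theorem kFin_60000 : chkRangeFin cert 60000 2000 = true := by decide +kernel

set_option maxHeartbeats 0 in
theorem kFin_62000 : chkRangeFin cert 62000 2000 = true := by decide +kernel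

set_option maxHeartbeats 0 in
theorem kFin_64000 : chkRangeFin cert 64000 2000 = true := by decide +kernel

set_option maxHeartbeats 0 in
theorem kFin_66000 : chkRangeFin cert 66000 2000 = true := by decide +kernel

set_option maxHeartbeats 0 in
theorem kFin_68000 : chkRangeFin cert 68000 2000 = true := by decide +kernel

set_option maxHeartbeats 0 in
theorem kFin_70000 : chkRangeFin cert 70000 2000 = true := by decide +kernel

end Cfsg.Agent.Helper17.TCD.ONA
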